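import Groth.Agent.KFlat.LTensorCx
import Groth.Agent.KFlat.PullTensor
import Groth.Agent.KFlat.TorFlat
import Groth.Agent.QC.Basic
import Mathlib.Algebra.Category.ModuleCat.Sheaf.PullbackFree
import Mathlib.Algebra.Category.ModuleCat.Products

/-!
Finite locally free modules and strictly perfect complexes under pullback; restriction to opens.
-/

set_option autoImplicit false
set_option linter.unusedSectionVars false
universe u

namespace Groth.Agent.DerPerf

open CategoryTheory Limits AlgebraicGeometry Opposite TopologicalSpace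

attribute [local instance] HasDerivedCategory.standard

variable {X Y : Scheme.{u}}

instance final_opensMap (f : X ⟶ Y) : (Opens.map f.base).Final where
  out U := by
    let t : StructuredArrow U (Opens.map f.base) :=
      StructuredArrow.mk (Y := (⊤ : Y.Opens)) (homOfLE (fun x _ => trivial) : U ⟶ f ⁻¹ᵁ (⊤ : Y.Opens))
    have : Nonempty (StructuredArrow U (Opens.map f.base)) := ⟨t⟩
    exact zigzag_isConnected fun j₁ j₂ =>
      (Zigzag.of_hom (StructuredArrow.homMk (homOfLE le_top) rfl : j₁ ⟶ t)).trans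
        (Zigzag.of_inv (StructuredArrow.homMk (homOfLE le_top) rfl : j₂ ⟶ t))

/-- pullback of the structure module -/
noncomputable def pullUnitIso (f : X ⟶ Y) :
    (Scheme.Modules.pullback f).obj (Coh.structureModule Y) ≅ Coh.structureModule X :=
  have : (SheafOfModules.pushforward.{u} f.toRingCatSheafHom).IsRightAdjoint :=
    inferInstanceAs (Scheme.Modules.pushforward f).IsRightAdjoint
  @asIso _ _ _ _ (SheafOfModules.pullbackObjUnitToUnit f.toRingCatSheafHom)
    (@SheafOfModules.instIsIsoPullbackObjUnitToUnitOfFinal _ _ _ _ _ _ _ _ _ _ f.toRingCatSheafHom this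
      (final_opensMap f))

/-- pullback of a free module -/
noncomputable def pullFreeIso (f : X ⟶ Y) (n : ℕ) :
    (Scheme.Modules.pullback f).obj (FlatMod.freeMod Y n) ≅ FlatMod.freeMod X n :=
  PreservesCoproduct.iso (Scheme.Modules.pullback f) _ ≪≫ Sigma.mapIso fun _ => pullUnitIso f

/-- pullback followed by restriction -/
noncomputable def pullRestrictIso (f : X ⟶ Y) (U : Y.Opens) :
    Scheme.Modules.pullback f ⋙ Scheme.Modules.restrictFunctor (f ⁻¹ᵁ U).ι ≅
      Scheme.Modules.restrictFunctor U.ι ⋙ Scheme.Modules.pullback (f ∣_ U) :=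
  Functor.isoWhiskerLeft _ (Scheme.Modules.restrictFunctorIsoPullback _) ≪≫
    Scheme.Modules.pullbackComp _ _ ≪≫ Scheme.Modules.pullbackCongr (morphismRestrict_ι f U).symm ≪≫
    (Scheme.Modules.pullbackComp _ _).symm ≪≫
    Functor.isoWhiskerRight (Scheme.Modules.restrictFunctorIsoPullback _).symm _

/-- pullback followed by restriction, on complexes -/
noncomputable def pullRestrictCxIso (f : X ⟶ Y) (U : Y.Opens) (K : CochainComplex Y.Modules ℤ) :
    (DCoh.restrictCx (f ⁻¹ᵁ U)).obj (((Scheme.Modules.pullback f).mapHomologicalComplex _).obj K) ≅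
      ((Scheme.Modules.pullback (f ∣_ U)).mapHomologicalComplex _).obj ((DCoh.restrictCx U).obj K) :=
  HomologicalComplex.Hom.isoOfComponents (fun n => (pullRestrictIso f U).app (K.X n))
    fun i j _ => ((pullRestrictIso f U).hom.naturality (K.d i j)).symm

lemma isFinLocFree_pullback (f : X ⟶ Y) {M : Y.Modules} (h : FlatMod.IsFinLocFree M) :
    FlatMod.IsFinLocFree ((Scheme.Modules.pullback f).obj M) := fun x => by
  obtain ⟨U, n, hU, ⟨e⟩⟩ := h (f.base x)
  exact ⟨f ⁻¹ᵁ U, n, hU, ⟨(pullRestrictIso f U).app M ≪≫ (Scheme.Modules.pullback (f ∣_ U)).mapIso e ≪≫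
    pullFreeIso (f ∣_ U) n⟩⟩

lemma vanishesOutside_map (f : X ⟶ Y) {E : CochainComplex Y.Modules ℤ} {a b : ℤ}
    (h : DCoh.VanishesOutside E a b) :
    DCoh.VanishesOutside (((Scheme.Modules.pullback f).mapHomologicalComplex (ComplexShape.up ℤ)).obj E) a b :=
  fun i hi => (Scheme.Modules.pullback f).map_isZero (h i hi)

lemma isStrictlyPerfect_pullback (f : X ⟶ Y) {E : CochainComplex Y.Modules ℤ} (h : DCoh.IsStrictlyPerfect E) :
    DCoh.IsStrictlyPerfect (((Scheme.Modules.pullback f).mapHomologicalComplex (ComplexShape.up ℤ)).obj E) := by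
  obtain ⟨⟨a, b, hab⟩, hE⟩ := h
  exact ⟨⟨a, b, vanishesOutside_map f hab⟩, fun i => isFinLocFree_pullback f (hE i)⟩

lemma isFlat_structureModule (X : Scheme.{u}) : FlatMod.IsFlat (Coh.structureModule X) := fun x => by
  change Module.Flat (X.presheaf.stalk x) (KFlat.PStalk (KFlat.pone X) x)
  exact Module.Flat.of_linearEquiv (LinearEquiv.ofBijective (KFlat.oneMap x) (KFlat.oneMap_bijective x)).symm

lemma isFlat_freeMod (X : Scheme.{u}) (n : ℕ) : FlatMod.IsFlat (FlatMod.freeMod X n) := fun x => by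
  have : PreservesColimitsOfSize.{0, 0} (DerSch.stalkFunctor X x) :=
    preservesSmallestColimits_of_preservesColimits _
  let M : Fin n → ModuleCat.{u} (X.presheaf.stalk x) := fun _ =>
    (DerSch.stalkFunctor X x).obj (Coh.structureModule X)
  have : ∀ i, Module.Flat (X.presheaf.stalk x) (M i) := fun _ => isFlat_structureModule X x
  have e := PreservesCoproduct.iso (DerSch.stalkFunctor X x) (fun _ : Fin n => Coh.structureModule X) ≪≫
    ModuleCat.coprodIsoDirectSum M
  change Module.Flat (X.presheaf.stalk x) ((DerSch.stalkFunctor X x).obj (FlatMod.freeMod X n))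
  have hsum : Module.Flat (X.presheaf.stalk x) (DirectSum (Fin n) fun i => M i) := Module.Flat.directSum_iff.2 this
  exact @Module.Flat.of_linearEquiv _ _ _ _ _ _ _ _ hsum e.toLinearEquiv

lemma flat_of_extendScalars {R S : Type u} [CommRing R] [CommRing S] (φ : R →+* S) (ψ : S →+* R)
    (h : ψ.comp φ = RingHom.id R) (M : ModuleCat.{u} R)
    (hM : Module.Flat S ((ModuleCat.extendScalars.{u, u, u} φ).obj M)) : Module.Flat R M := by
  let : Algebra S R := ψ.toAlgebra
  have : Module.Flat R ((ModuleCat.extendScalars.{u, u, u} ψ).obj ((ModuleCat.extendScalars.{u, u, u} φ).obj M)) :=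
    Module.Flat.baseChange S R _
  let e := ((ModuleCat.extendScalarsComp φ ψ).app M).symm ≪≫
    eqToIso (congrArg (fun χ => (ModuleCat.extendScalars.{u, u, u} χ).obj M) h) ≪≫
    (ModuleCat.extendScalarsId R).app M
  exact @Module.Flat.of_linearEquiv _ _ _ _ _ _ _ _ this e.toLinearEquiv.symm

lemma isFlat_of_isFinLocFree {M : X.Modules} (h : FlatMod.IsFinLocFree M) : FlatMod.IsFlat M := fun x => by
  obtain ⟨U, n, hU, ⟨e⟩⟩ := h x
  let y : (U : Scheme.{u}) := ⟨x, hU⟩
  have hfree : Module.Flat _ ((DerSch.stalkFunctor (U : Scheme.{u}) y).obj ((Scheme.Modules.pullback U.ι).obj M)) :=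
    KFlat.isFlat_of_iso (((Scheme.Modules.restrictFunctorIsoPullback U.ι).app M).symm ≪≫ e).symm
      (isFlat_freeMod _ n) y
  have : IsIso (U.ι.stalkMap y) := inferInstance
  let φ := (U.ι.stalkMap y).hom
  let ψ := (inv (U.ι.stalkMap y)).hom
  have hψφ : ψ.comp φ = RingHom.id _ := by
    rw [← CommRingCat.hom_comp, IsIso.hom_inv_id]; rfl
  let M₀ := (DerSch.stalkFunctor X x).obj M
  let T := (DerSch.stalkFunctor (U : Scheme.{u}) y).obj ((Scheme.Modules.pullback U.ι).obj M)
  change Module.Flat (X.presheaf.stalk x) M₀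
  exact flat_of_extendScalars φ ψ hψφ M₀ (@Module.Flat.of_linearEquiv _ _ _ _ _ _ _ _ hfree
    ((KFlat.pullStalkIso U.ι y).app M).symm.toLinearEquiv)

lemma isKFlat_of_isStrictlyPerfect {E : CochainComplex X.Modules ℤ} (h : DCoh.IsStrictlyPerfect E) :
    DCoh.IsKFlat E := by
  obtain ⟨⟨a, b, hab⟩, hE⟩ := h
  exact KFlat.isKFlat_of_vanishesOutside hab fun i => isFlat_of_isFinLocFree (hE i)

section Restrict

variable (V : X.Opens)

lemma isKFlat_restrictCx {K : CochainComplex X.Modules ℤ} (hK : DCoh.IsKFlat K) :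
    DCoh.IsKFlat ((DCoh.restrictCx V).obj K) :=
  (KFlat.rflat_iff_sch _).2 (KFlat.rflat_of_iso
    (HomologicalComplex.Hom.isoOfComponents
      (fun n => ((Scheme.Modules.restrictFunctorIsoPullback V.ι).app (K.X n)).symm)
      fun i j _ => ((Scheme.Modules.restrictFunctorIsoPullback V.ι).inv.naturality (K.d i j)).symm)
    ((KFlat.rflat_iff_sch _).1 (KFlat.isKFlat_pullback V.ι hK)))

/-- restriction on derived categories -/
noncomputable abbrev restrD : DCoh.D X ⥤ DCoh.D (V : Scheme.{u}) :=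
  (Scheme.Modules.restrictFunctor V.ι).mapDerivedCategory

/-- restriction on derived categories at a complex -/
noncomputable def restrDIso (K : CochainComplex X.Modules ℤ) :
    (restrD V).obj (DCoh.toD X K) ≅ DerivedCategory.Q.obj ((DCoh.restrictCx V).obj K) :=
  (Scheme.Modules.restrictFunctor V.ι).mapDerivedCategoryFactors.app K

/-- isomorphic objects of `D(O_X)` have isomorphic restrictions -/
noncomputable def restrictCxIso {F G : CochainComplex X.Modules ℤ} (e : DCoh.toD X F ≅ DCoh.toD X G) :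
    DerivedCategory.Q.obj ((DCoh.restrictCx V).obj F) ≅ DerivedCategory.Q.obj ((DCoh.restrictCx V).obj G) :=
  (restrDIso V F).symm ≪≫ (restrD V).mapIso e ≪≫ restrDIso V G

lemma isPerfect_iff_rep {K : DCoh.D X} {F : CochainComplex X.Modules ℤ} (e : DCoh.toD X F ≅ K) :
    DCoh.IsPerfect K ↔ ∀ x : X, ∃ (V : X.Opens), x ∈ V ∧ ∃ E : CochainComplex (V : Scheme.{u}).Modules ℤ,
      DCoh.IsStrictlyPerfect E ∧
        Nonempty (DerivedCategory.Q.obj ((DCoh.restrictCx V).obj F) ≅ DerivedCategory.Q.obj E) := by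
  constructor
  · intro h x
    obtain ⟨V, hV, hV'⟩ := h x
    exact ⟨V, hV, hV' F ⟨e⟩⟩
  · intro h x
    obtain ⟨V, hV, E, hE, ⟨i⟩⟩ := h x
    exact ⟨V, hV, fun G ⟨e'⟩ => ⟨E, hE, ⟨restrictCxIso V (e' ≪≫ e.symm) ≪≫ i⟩⟩⟩

end Restrict

theorem isPerfect_Lpull (f : X ⟶ Y) [DCoh.HasLpull f] (E : DCoh.D Y) (hE : DCoh.IsPerfect E) :
    DCoh.IsPerfect ((DCoh.Lpull f).obj E) := by
  obtain ⟨K, hK, -, ⟨e⟩⟩ := KFlat.exists_isKFlat_rep E
  refine (isPerfect_iff_rep ((KFlat.lpullIso f hK).symm ≪≫ (DCoh.Lpull f).mapIso e)).2 fun x => ?_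
  obtain ⟨V, hV, E', hE', ⟨i⟩⟩ := (isPerfect_iff_rep e).1 hE (f.base x)
  refine ⟨f ⁻¹ᵁ V, hV, _, isStrictlyPerfect_pullback (f ∣_ V) hE', ⟨?_⟩⟩
  have := KFlat.hasLpull (f ∣_ V)
  exact DerivedCategory.Q.mapIso (pullRestrictCxIso f V K) ≪≫
    (KFlat.lpullIso (f ∣_ V) (isKFlat_restrictCx V hK)).symm ≪≫ (DCoh.Lpull (f ∣_ V)).mapIso i ≪≫
    KFlat.lpullIso (f ∣_ V) (isKFlat_of_isStrictlyPerfect hE')

end Groth.Agent.DerPerf
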