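import Groth.Agent.DerPerf.Local
import Groth.Agent.ModSiteExt.Consequences
import Mathlib.Order.Interval.Finset.Defs
import Mathlib.Data.Int.Interval

/-!
Tensor products of finite locally free modules, strictly perfect complexes and perfect objects.
-/

set_option autoImplicit false
set_option linter.unusedSectionVars false
universe v u

namespace Groth.Agent.DerPerf

open CategoryTheory Limits

section Generic

variable {C : Type u} [Category.{v} C] [HasZeroMorphisms C] {ι : Type*} {F : ι → C}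

/-- a cofan may be restricted to the indices of nonzero objects -/
noncomputable def isColimitRestrict {c : Cofan F} (hc : IsColimit c) (s : Finset ι)
    (h : ∀ i, i ∉ s → IsZero (F i)) :
    IsColimit (Cofan.mk c.pt fun i : {i // i ∈ s} => c.inj i.1) := by
  classical
  refine Cofan.IsColimit.mk _ (fun d => Cofan.IsColimit.desc hc fun i =>
    if hi : i ∈ s then d.inj ⟨i, hi⟩ else 0) (fun d i => ?_) (fun d m hm => ?_)
  · simp [Cofan.IsColimit.fac hc, i.2]
  · refine Cofan.IsColimit.hom_ext hc _ _ fun i => ?_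
    rw [Cofan.IsColimit.fac hc]
    by_cases hi : i ∈ s
    · rw [dif_pos hi]; exact hm ⟨i, hi⟩
    · exact (h i hi).eq_of_src _ _

end Generic

open AlgebraicGeometry TopologicalSpace

attribute [local instance] HasDerivedCategory.standard

variable {X Y : Scheme.{u}}

/-- pullback to a smaller open -/
noncomputable def pullLeIso {W U : X.Opens} (h : W ≤ U) :
    Scheme.Modules.pullback U.ι ⋙ Scheme.Modules.pullback (X.homOfLE h) ≅ Scheme.Modules.pullback W.ι :=
  Scheme.Modules.pullbackComp _ _ ≪≫ Scheme.Modules.pullbackCongr (X.homOfLE_ι h)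

/-- `M` is free of finite rank on `W` -/
def IsFreeOn (M : X.Modules) (W : X.Opens) : Prop :=
  ∃ n : ℕ, Nonempty ((Scheme.Modules.pullback W.ι).obj M ≅ FlatMod.freeMod (W : Scheme.{u}) n)

lemma isFreeOn_of_le {M : X.Modules} {W U : X.Opens} (h : W ≤ U) (hM : IsFreeOn M U) : IsFreeOn M W := by
  obtain ⟨n, ⟨e⟩⟩ := hM
  exact ⟨n, ⟨(pullLeIso h).symm.app M ≪≫ (Scheme.Modules.pullback (X.homOfLE h)).mapIso e ≪≫ pullFreeIso _ n⟩⟩

lemma isFinLocFree_iff_isFreeOn {M : X.Modules} :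
    FlatMod.IsFinLocFree M ↔ ∀ x : X, ∃ U : X.Opens, x ∈ U ∧ IsFreeOn M U := by
  constructor
  · intro h x
    obtain ⟨U, n, hU, ⟨e⟩⟩ := h x
    exact ⟨U, hU, n, ⟨(Scheme.Modules.restrictFunctorIsoPullback U.ι).symm.app M ≪≫ e⟩⟩
  · intro h x
    obtain ⟨U, hU, n, ⟨e⟩⟩ := h x
    exact ⟨U, n, hU, ⟨(Scheme.Modules.restrictFunctorIsoPullback U.ι).app M ≪≫ e⟩⟩

lemma exists_common_free {ι : Type*} (s : Finset ι) (M : ι → X.Modules)
    (h : ∀ i ∈ s, FlatMod.IsFinLocFree (M i)) (x : X) :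
    ∃ W : X.Opens, x ∈ W ∧ ∀ i ∈ s, IsFreeOn (M i) W := by
  classical
  induction s using Finset.induction_on with
  | empty => exact ⟨⊤, trivial, fun i hi => absurd hi (Finset.notMem_empty i)⟩
  | @insert a t ha ih =>
    obtain ⟨W, hW, hW'⟩ := ih fun i hi => h i (Finset.mem_insert_of_mem hi)
    obtain ⟨U, hU, hU'⟩ := isFinLocFree_iff_isFreeOn.1 (h a (Finset.mem_insert_self a t)) x
    refine ⟨W ⊓ U, ⟨hW, hU⟩, fun i hi => ?_⟩
    rcases Finset.mem_insert.1 hi with rfl | hi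
    · exact isFreeOn_of_le inf_le_right hU'
    · exact isFreeOn_of_le inf_le_left (hW' i hi)

/-- a finite coproduct of free modules is free -/
lemma exists_iso_free {ι : Type} [Fintype ι] {M : ι → X.Modules} (h : ∀ i, ∃ n, Nonempty (M i ≅ FlatMod.freeMod X n))
    {c : Cofan M} (hc : IsColimit c) : ∃ N, Nonempty (c.pt ≅ FlatMod.freeMod X N) := by
  choose n hn using h
  let e : (Σ i, Fin (n i)) ≃ Fin (Fintype.card (Σ i, Fin (n i))) := Fintype.equivFin _
  exact ⟨Fintype.card (Σ i, Fin (n i)), ⟨hc.coconePointUniqueUpToIso (coproductIsCoproduct M) ≪≫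
    Sigma.mapIso (fun i => (hn i).some) ≪≫
    sigmaSigmaIso (fun i => Fin (n i)) (fun _ _ => Coh.structureModule X) ≪≫
    Sigma.whiskerEquiv (g := fun _ : Fin _ => Coh.structureModule X) e (fun _ => Iso.refl _)⟩⟩

/-- coproducts of finite locally free modules almost all zero are finite locally free -/
lemma isFinLocFree_of_isColimit {ι : Type} (s : Finset ι) {M : ι → X.Modules} {c : Cofan M} (hc : IsColimit c)
    (h0 : ∀ i, i ∉ s → IsZero (M i)) (h : ∀ i ∈ s, FlatMod.IsFinLocFree (M i)) : FlatMod.IsFinLocFree c.pt := by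
  classical
  refine isFinLocFree_iff_isFreeOn.2 fun x => ?_
  obtain ⟨W, hW, hfree⟩ := exists_common_free s M h x
  refine ⟨W, hW, ?_⟩
  have hc' := isColimitCofanMkObjOfIsColimit (Scheme.Modules.pullback W.ι) _ _ (isColimitRestrict hc s h0)
  exact exists_iso_free (fun i : {i // i ∈ s} => hfree i.1 i.2) hc'

/-- `O ⊗ M ≅ M` -/
noncomputable def unitTensIso (M : X.Modules) : ((KFlat.schB X).obj (Coh.structureModule X)).obj M ≅ M :=
  Groth.Agent.ModSiteExt.unitTensorIso X.sheaf M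

lemma preservesColimits_tensorFlip (N : X.Modules) (J : Type) :
    PreservesColimitsOfShape (Discrete J) ((KFlat.schB X).flip.obj N) :=
  have := Groth.Agent.ModSiteTensor.preservesColimits_tensorBi_flip_obj X.sheaf N
  have : PreservesColimitsOfSize.{u, u} ((KFlat.schB X).flip.obj N) := this
  have : PreservesColimitsOfSize.{0, 0} ((KFlat.schB X).flip.obj N) := preservesSmallestColimits_of_preservesColimits _
  inferInstance

lemma tensor_free (n m : ℕ) :
    ∃ N, Nonempty (((KFlat.schB X).obj (FlatMod.freeMod X n)).obj (FlatMod.freeMod X m) ≅ FlatMod.freeMod X N) := by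
  have := preservesColimits_tensorFlip (FlatMod.freeMod X m) (Fin n)
  have hc := isColimitCofanMkObjOfIsColimit ((KFlat.schB X).flip.obj (FlatMod.freeMod X m)) _ _
    (coproductIsCoproduct fun _ : Fin n => Coh.structureModule X)
  exact exists_iso_free (fun _ => ⟨m, ⟨unitTensIso (FlatMod.freeMod X m)⟩⟩) hc

lemma isFinLocFree_tensor {M N : X.Modules} (hM : FlatMod.IsFinLocFree M) (hN : FlatMod.IsFinLocFree N) :
    FlatMod.IsFinLocFree (((KFlat.schB X).obj M).obj N) := by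
  refine isFinLocFree_iff_isFreeOn.2 fun x => ?_
  obtain ⟨U, hU, hU'⟩ := isFinLocFree_iff_isFreeOn.1 hM x
  obtain ⟨V, hV, hV'⟩ := isFinLocFree_iff_isFreeOn.1 hN x
  obtain ⟨n, ⟨a⟩⟩ := isFreeOn_of_le (inf_le_left : U ⊓ V ≤ U) hU'
  obtain ⟨m, ⟨b⟩⟩ := isFreeOn_of_le (inf_le_right : U ⊓ V ≤ V) hV'
  obtain ⟨k, ⟨c⟩⟩ := tensor_free (X := (U ⊓ V : X.Opens)) n m
  exact ⟨U ⊓ V, ⟨hU, hV⟩, k, ⟨(KFlat.pullTensorIso (U ⊓ V : X.Opens).ι M N).symm ≪≫
    ((KFlat.schB _).mapIso a).app _ ≪≫ ((KFlat.schB _).obj _).mapIso b ≪≫ c⟩⟩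

lemma isStrictlyPerfect_tensor {E E' : CochainComplex X.Modules ℤ} (h : DCoh.IsStrictlyPerfect E)
    (h' : DCoh.IsStrictlyPerfect E') : DCoh.IsStrictlyPerfect ((DCoh.tensorCx.obj E).obj E') := by
  obtain ⟨⟨a, b, hab⟩, hE⟩ := h
  obtain ⟨⟨a', b', hab'⟩, hE'⟩ := h'
  let D := (((KFlat.schB X).mapBifunctorHomologicalComplex (ComplexShape.up ℤ) (ComplexShape.up ℤ)).obj E).obj E'
  let π := ComplexShape.π (ComplexShape.up ℤ) (ComplexShape.up ℤ) (ComplexShape.up ℤ)
  have hz : ∀ p q : ℤ, (¬ (a ≤ p ∧ p ≤ b) ∨ ¬ (a' ≤ q ∧ q ≤ b')) →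
      IsZero (((KFlat.schB X).obj (E.X p)).obj (E'.X q)) := fun p q hpq => by
    rcases hpq with hp | hq
    · exact Functor.map_isZero ((KFlat.schB X).flip.obj (E'.X q)) (hab p (by lia))
    · exact Functor.map_isZero ((KFlat.schB X).obj (E.X p)) (hab' q (by lia))
  refine ⟨⟨a + a', b + b', fun n hn => ?_⟩, fun n => ?_⟩
  · rw [IsZero.iff_id_eq_zero]
    refine HomologicalComplex.mapBifunctor.hom_ext fun p q (h : p + q = n) => ?_
    exact (hz p q (by lia)).eq_of_src _ _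
  · classical
    let g : ℤ → (π ⁻¹' {n} : Set (ℤ × ℤ)) := fun p => ⟨(p, n - p), show p + (n - p) = n by lia⟩
    let s : Finset (π ⁻¹' {n}) := (Finset.Icc a b).image g
    refine isFinLocFree_of_isColimit s (D.toGradedObject.isColimitCofanMapObj π n) (fun i hi => ?_)
      (fun i _ => isFinLocFree_tensor (hE _) (hE' _))
    obtain ⟨⟨p, q⟩, hpq⟩ := i
    refine hz p q (Or.inl fun hp => hi ?_)
    have hpq' : p + q = n := hpq
    exact Finset.mem_image.2 ⟨p, Finset.mem_Icc.2 hp, Subtype.ext (Prod.ext rfl (show n - p = q by lia))⟩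

theorem isPerfect_LTensor (L : CochainComplex X.Modules ℤ) (hL : DCoh.IsKFlat L)
    (hLp : DCoh.IsPerfect (DerivedCategory.Q.obj L)) [DCoh.HasLTensorCx L] (K : DCoh.D X) (hK : DCoh.IsPerfect K) :
    DCoh.IsPerfect ((DCoh.LTensorCx L).obj K) := by
  obtain ⟨P, hP, -, ⟨e⟩⟩ := KFlat.exists_isKFlat_rep K
  refine (isPerfect_iff_rep ((KFlat.ltIso L hP).symm ≪≫ (DCoh.LTensorCx L).mapIso e)).2 fun x => ?_
  obtain ⟨V, hV, E, hE, ⟨a⟩⟩ := (isPerfect_iff_rep e).1 hK x
  obtain ⟨V', hV', E', hE', ⟨b⟩⟩ := (isPerfect_iff_rep (F := L) (K := DerivedCategory.Q.obj L) (Iso.refl _)).1 hLp x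
  let W : X.Opens := V ⊓ V'
  let R := (Scheme.Modules.pullback W.ι).mapHomologicalComplex (ComplexShape.up ℤ)
  let Rle {U : X.Opens} (h : W ≤ U) :=
    (Scheme.Modules.pullback (X.homOfLE h)).mapHomologicalComplex (ComplexShape.up ℤ)
  -- the restriction to `W` of a local model
  have model : ∀ {U : X.Opens} (h : W ≤ U) (F : CochainComplex X.Modules ℤ) (G : CochainComplex (U : Scheme.{u}).Modules ℤ),
      DCoh.IsKFlat F → DCoh.IsKFlat G →
      (DerivedCategory.Q.obj ((DCoh.restrictCx U).obj F) ≅ DerivedCategory.Q.obj G) →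
      Nonempty (DerivedCategory.Q.obj (R.obj F) ≅ DerivedCategory.Q.obj ((Rle h).obj G)) := by
    intro U h F G hF hG c
    have := KFlat.hasLpull (X.homOfLE h)
    let i := Functor.isoWhiskerRight (Scheme.Modules.restrictFunctorIsoPullback U.ι)
      (Scheme.Modules.pullback (X.homOfLE h)) ≪≫ pullLeIso h
    exact ⟨DerivedCategory.Q.mapIso (HomologicalComplex.Hom.isoOfComponents (fun n => i.app (F.X n))
        (fun p q _ => (i.hom.naturality (F.d p q)).symm) : (Rle h).obj ((DCoh.restrictCx U).obj F) ≅ R.obj F).symm ≪≫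
      (KFlat.lpullIso (X.homOfLE h) (isKFlat_restrictCx U hF)).symm ≪≫ (DCoh.Lpull (X.homOfLE h)).mapIso c ≪≫
      KFlat.lpullIso (X.homOfLE h) hG⟩
  obtain ⟨a'⟩ := model (inf_le_left : W ≤ V) P E hP (isKFlat_of_isStrictlyPerfect hE) a
  obtain ⟨b'⟩ := model (inf_le_right : W ≤ V') L E' hL (isKFlat_of_isStrictlyPerfect hE') b
  let E₁ := (Rle (inf_le_left : W ≤ V)).obj E
  let E₂ := (Rle (inf_le_right : W ≤ V')).obj E'
  have hE₁ : DCoh.IsStrictlyPerfect E₁ := isStrictlyPerfect_pullback _ hE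
  have hE₂ : DCoh.IsStrictlyPerfect E₂ := isStrictlyPerfect_pullback _ hE'
  have hE₁' := isKFlat_of_isStrictlyPerfect hE₁
  have hP' : DCoh.IsKFlat (R.obj P) := KFlat.isKFlat_pullback W.ι hP
  have hL' : DCoh.IsKFlat (R.obj L) := KFlat.isKFlat_pullback W.ι hL
  have := KFlat.hasLTensorCx (R.obj L)
  have := KFlat.hasLTensorCx E₁
  have e : KFlat.schB (W : Scheme.{u}) ≅ (KFlat.schB (W : Scheme.{u})).flip := KFlat.braid _
  refine ⟨W, ⟨hV, hV'⟩, _, isStrictlyPerfect_tensor hE₁ hE₂, ⟨?_⟩⟩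
  let T := (DCoh.tensorCx.obj P).obj L
  let i₀ : (DCoh.restrictCx W).obj T ≅ R.obj T := HomologicalComplex.Hom.isoOfComponents
      (fun n => (Scheme.Modules.restrictFunctorIsoPullback W.ι).app (T.X n))
      (fun p q _ => ((Scheme.Modules.restrictFunctorIsoPullback W.ι).hom.naturality (T.d p q)).symm)
  exact DerivedCategory.Q.mapIso (i₀ ≪≫ (KFlat.pullTotIso W.ι P L).symm) ≪≫
    (KFlat.ltIso _ hP').symm ≪≫ (DCoh.LTensorCx (R.obj L)).mapIso a' ≪≫ KFlat.ltIso _ hE₁' ≪≫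
    DerivedCategory.Q.mapIso (KFlat.swapIso e E₁ (R.obj L)) ≪≫
    (KFlat.ltIso E₁ hL').symm ≪≫ (DCoh.LTensorCx E₁).mapIso b' ≪≫
    KFlat.ltIso E₁ (isKFlat_of_isStrictlyPerfect hE₂) ≪≫
    DerivedCategory.Q.mapIso (KFlat.swapIso e E₁ E₂).symm

end Groth.Agent.DerPerf
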