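import Groth.Agent.DerPerf.Local

/-!
Pullback of pseudo-coherent objects.
-/

set_option autoImplicit false
set_option linter.unusedSectionVars false
universe v u

namespace Groth.Agent.DerPerf

open CategoryTheory Limits HomologicalComplex CochainComplex

section Cone

variable {A : Type u} [Category.{v} A] [Abelian A] {K L : CochainComplex A ℤ} (f : K ⟶ L)

lemma isIso_homologyMap_cylFst (i : ℤ) :
    IsIso (homologyMap (biprod.fst : L ⊞ mappingCone (𝟙 K) ⟶ L) i) :=
  ⟨homologyMap (biprod.inl : L ⟶ L ⊞ mappingCone (𝟙 K)) i,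
    by rw [← homologyMap_comp, (KFlat.cylHomotopy (K := K) (L := L)).homologyMap_eq i, homologyMap_id],
    by rw [← homologyMap_comp, biprod.inl_fst, homologyMap_id]⟩

/-- `f` is an isomorphism above degree `m` and epimorphism in degree `m` iff its cone is exact in
degrees at least `m` -/
lemma cone_isZero_iff (m : ℤ) :
    (∀ i, m ≤ i → IsZero ((mappingCone f).homology i)) ↔
      (∀ i, m < i → IsIso (homologyMap f i)) ∧ Epi (homologyMap f m) := by
  have hS := KFlat.shortExact_of_splitting (KFlat.cylSplitting f)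
  let a : K ⟶ L ⊞ mappingCone (𝟙 K) := biprod.lift f (mappingCone.inr (𝟙 K))
  let p : L ⊞ mappingCone (𝟙 K) ⟶ L := biprod.fst
  have hp : ∀ i, IsIso (homologyMap p i) := fun i => isIso_homologyMap_cylFst (K := K) (L := L) i
  have hf : ∀ i, homologyMap a i = homologyMap f i ≫ inv (homologyMap p i) := fun i => by
    rw [IsIso.eq_comp_inv, ← homologyMap_comp, biprod.lift_fst]
  constructor
  · intro h
    have he : ∀ i, m ≤ i → Epi (homologyMap a i) := fun i hi =>
      (hS.homology_exact₂ i).epi_f ((h i hi).eq_of_tgt _ _)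
    have he' : ∀ i, m ≤ i → Epi (homologyMap f i) := fun i hi => by
      have h1 := @epi_comp _ _ _ _ _ (homologyMap a i) (he i hi) (homologyMap p i) inferInstance
      rwa [hf, Category.assoc, IsIso.inv_hom_id, Category.comp_id] at h1
    refine ⟨fun i hi => ?_, he' m le_rfl⟩
    have h2 : Mono (homologyMap a i) :=
      (hS.homology_exact₁ (i - 1) i (by simp)).mono_g ((h (i - 1) (by lia)).eq_of_src _ _)
    have h1 := @mono_comp _ _ _ _ _ (homologyMap a i) h2 (homologyMap p i) inferInstance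
    rw [hf, Category.assoc, IsIso.inv_hom_id, Category.comp_id] at h1
    have := he' i hi.le
    exact isIso_of_mono_of_epi _
  · rintro ⟨hiso, he⟩ i hi
    have h1 : Epi (homologyMap f i) := by
      obtain rfl | hi' := eq_or_lt_of_le hi
      · exact he
      · have := hiso i hi'; infer_instance
    have h1' : Epi (homologyMap a i) := by rw [hf]; infer_instance
    have h2' : Mono (homologyMap a (i + 1)) := by
      have := hiso (i + 1) (by lia)
      rw [hf]; infer_instance
    refine (hS.homology_exact₃ i (i + 1) (by simp)).isZero_of_both_zeros ?_ ?_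
    · refine (@cancel_epi _ _ _ _ _ (homologyMap a i) h1' _ _).1 ?_
      exact (homologyMap_comp _ _ i).symm.trans
        (((congrArg (fun t => homologyMap t i) (KFlat.cylSC f).zero).trans (homologyMap_zero _ _ i)).trans comp_zero.symm)
    · refine (@cancel_mono _ _ _ _ _ (homologyMap a (i + 1)) h2' _ _).1 ?_
      exact (hS.δ_comp i (i + 1) (by simp)).trans zero_comp.symm

end Cone

end Groth.Agent.DerPerf

namespace Groth.Agent.DerPerf

open CategoryTheory Limits AlgebraicGeometry HomologicalComplex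

attribute [local instance] HasDerivedCategory.standard

variable {X Y : Scheme.{u}}

/-- right exactness of `f^*` on K-flat complexes -/
lemma isZero_homology_pullback (f : X ⟶ Y) {C : CochainComplex Y.Modules ℤ} (hC : DCoh.IsKFlat C) (m : ℤ)
    (h : ∀ i, m ≤ i → IsZero (C.homology i)) (i : ℤ) (hi : m ≤ i) :
    IsZero ((((Scheme.Modules.pullback f).mapHomologicalComplex (ComplexShape.up ℤ)).obj C).homology i) := by
  have : C.IsLE (m - 1) := (CochainComplex.isLE_iff C (m - 1)).2 fun j hj =>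
    (exactAt_iff_isZero_homology _ _).2 (h j (by lia))
  have : QuasiIso (C.ιTruncLE (m - 1)) := (CochainComplex.quasiIso_ιTruncLE_iff C (m - 1)).2 inferInstance
  obtain ⟨P, q, hP, -, hq, hPb⟩ := KFlat.exists_resolution_le_sch (C.truncLE (m - 1)) (m - 1)
  have := KFlat.quasiIso_map_of_kFlat (KFlat.kFlatAcyclic_pullback f) (q ≫ C.ιTruncLE (m - 1)) hP hC
  exact (ShortComplex.isZero_homology_of_isZero_X₂ _ ((Scheme.Modules.pullback f).map_isZero
    (P.isZero_of_isStrictlyLE (m - 1) i (by lia)))).of_iso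
    (isoOfQuasiIsoAt (((Scheme.Modules.pullback f).mapHomologicalComplex (ComplexShape.up ℤ)).map
      (q ≫ C.ιTruncLE (m - 1))) i).symm

/-- isomorphism above degree `m`, epimorphism in degree `m` -/
def MIso (m : ℤ) {E F : DCoh.D X} (α : E ⟶ F) : Prop :=
  (∀ i : ℤ, m < i → IsIso ((DerivedCategory.homologyFunctor X.Modules i).map α)) ∧
    Epi ((DerivedCategory.homologyFunctor X.Modules m).map α)

lemma mIso_iso_comp (m : ℤ) {E' E F F' : DCoh.D X} (e : E' ≅ E) (α : E ⟶ F) (e' : F ≅ F') (h : MIso m α) :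
    MIso m (e.hom ≫ α ≫ e'.hom) := by
  refine ⟨fun i hi => ?_, ?_⟩
  · have := h.1 i hi
    rw [Functor.map_comp, Functor.map_comp]
    infer_instance
  · have := h.2
    rw [Functor.map_comp, Functor.map_comp]
    infer_instance

lemma mIso_Q_map_iff (m : ℤ) {K L : CochainComplex X.Modules ℤ} (g : K ⟶ L) :
    MIso m (DerivedCategory.Q.map g) ↔ ∀ i, m ≤ i → IsZero ((CochainComplex.mappingCone g).homology i) := by
  rw [cone_isZero_iff]
  let e := fun i => DerivedCategory.homologyFunctorFactors X.Modules i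
  have hi : ∀ i, IsIso ((DerivedCategory.homologyFunctor X.Modules i).map (DerivedCategory.Q.map g)) ↔
      IsIso (homologyMap g i) := fun i => NatIso.isIso_map_iff (e i) g
  have he : Epi ((DerivedCategory.homologyFunctor X.Modules m).map (DerivedCategory.Q.map g)) ↔
      Epi (homologyMap g m) :=
    (MorphismProperty.epimorphisms X.Modules).arrow_mk_iso_iff
      (Arrow.isoMk ((e m).app K) ((e m).app L) ((e m).hom.naturality g).symm)
  exact and_congr (forall₂_congr fun i _ => hi i) he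

lemma isPseudoCoherent_iff_rep {m : ℤ} {K : DCoh.D X} {F : CochainComplex X.Modules ℤ} (e : DCoh.toD X F ≅ K) :
    DCoh.IsPseudoCoherentD m K ↔ ∀ x : X, ∃ (V : X.Opens), x ∈ V ∧ ∃ (E : CochainComplex (V : Scheme.{u}).Modules ℤ)
      (α : DerivedCategory.Q.obj E ⟶ DerivedCategory.Q.obj ((DCoh.restrictCx V).obj F)),
        DCoh.IsStrictlyPerfect E ∧ MIso m α := by
  constructor
  · intro h x
    obtain ⟨V, hV, hV'⟩ := h x
    obtain ⟨E, α, hE, hα⟩ := hV' F ⟨e⟩
    exact ⟨V, hV, E, α, hE, hα⟩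
  · intro h x
    obtain ⟨V, hV, E, α, hE, hα⟩ := h x
    refine ⟨V, hV, fun G ⟨e'⟩ => ⟨E, α ≫ (restrictCxIso V (e' ≪≫ e.symm)).inv, hE, ?_⟩⟩
    have := mIso_iso_comp m (Iso.refl _) α (restrictCxIso V (e' ≪≫ e.symm)).symm hα
    simpa [MIso] using! this

theorem isPseudoCoherent_Lpull (f : X ⟶ Y) [DCoh.HasLpull f] (m : ℤ) (E : DCoh.D Y)
    (hE : DCoh.IsPseudoCoherentD m E) : DCoh.IsPseudoCoherentD m ((DCoh.Lpull f).obj E) := by
  obtain ⟨K, hK, -, ⟨e⟩⟩ := KFlat.exists_isKFlat_rep E
  refine (isPseudoCoherent_iff_rep ((KFlat.lpullIso f hK).symm ≪≫ (DCoh.Lpull f).mapIso e)).2 fun x => ?_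
  obtain ⟨V, hV, E', α, hE', hα⟩ := (isPseudoCoherent_iff_rep e).1 hE (f.base x)
  let K' := (DCoh.restrictCx V).obj K
  obtain ⟨E₁, s, hs, g, hg⟩ := DerivedCategory.right_fac α
  let E₂ := (KFlat.resF (V : Scheme.{u})).obj E₁
  let t : E₂ ⟶ E₁ := (KFlat.resψ (V : Scheme.{u})).app E₁
  have hE₂ : DCoh.IsKFlat E₂ := KFlat.isKFlat_resF E₁
  have hts : IsIso (DerivedCategory.Q.map (t ≫ s)) := by rw [Functor.map_comp]; infer_instance
  have hts' : QuasiIso (t ≫ s) := (DerivedCategory.isIso_Q_map_iff_quasiIso _ (t ≫ s)).1 hts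
  have hg' : DerivedCategory.Q.map (t ≫ g) = DerivedCategory.Q.map (t ≫ s) ≫ α := by
    rw [hg, Functor.map_comp, Functor.map_comp, Category.assoc, IsIso.hom_inv_id_assoc]
  have h₁ : MIso m (DerivedCategory.Q.map (t ≫ g)) := by
    rw [hg']
    simpa using mIso_iso_comp m (@asIso _ _ _ _ _ hts) α (Iso.refl _) hα
  let p := f ∣_ V
  let P := (Scheme.Modules.pullback p).mapHomologicalComplex (ComplexShape.up ℤ)
  have hC : DCoh.IsKFlat (CochainComplex.mappingCone (t ≫ g)) :=
    KFlat.rflat_mappingCone_sch _ hE₂ (isKFlat_restrictCx V hK)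
  have h₂ : MIso m (DerivedCategory.Q.map (P.map (t ≫ g))) := (mIso_Q_map_iff m _).2 fun i hi =>
    (isZero_homology_pullback p hC m ((mIso_Q_map_iff m _).1 h₁) i hi).of_iso
      ((homologyFunctor _ _ i).mapIso
        (CochainComplex.mappingCone.mapHomologicalComplexIso (t ≫ g) (Scheme.Modules.pullback p))).symm
  have := KFlat.quasiIso_map_of_kFlat (KFlat.kFlatAcyclic_pullback p) (t ≫ s) hE₂
    (isKFlat_of_isStrictlyPerfect hE')
  let e₁ : DerivedCategory.Q.obj (P.obj E₂) ≅ DerivedCategory.Q.obj (P.obj E') :=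
    @asIso _ _ _ _ (DerivedCategory.Q.map (P.map (t ≫ s))) inferInstance
  exact ⟨f ⁻¹ᵁ V, hV, P.obj E', e₁.inv ≫ DerivedCategory.Q.map (P.map (t ≫ g)) ≫
    (DerivedCategory.Q.mapIso (pullRestrictCxIso f V K)).inv, isStrictlyPerfect_pullback p hE',
    mIso_iso_comp m e₁.symm _ (DerivedCategory.Q.mapIso (pullRestrictCxIso f V K)).symm h₂⟩

end Groth.Agent.DerPerf
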